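import Groth.Agent.Lib.SpSeqBasic25.Stationary
import Groth.Agent.Lib.QCoh.SupportExact
import Groth.Agent.Lib.QCoh.Extension
import Groth.Agent.Lib.OX.CohClass
import Groth.Agent.Lib.CMReg.Complex

/-!
# Coherence of the abutment of a spectral sequence of quasi-coherent sheaves
-/

set_option autoImplicit false
universe u

open CategoryTheory CategoryTheory.Limits AlgebraicGeometry

namespace GrothLib.CohSS9

variable {X : Scheme.{u}}

theorem isQuasicoherent_homology (S : ShortComplex X.Modules) [S.X₁.IsQuasicoherent] [S.X₂.IsQuasicoherent]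
    [S.X₃.IsQuasicoherent] : S.homology.IsQuasicoherent := by
  haveI : S.cycles.IsQuasicoherent :=
    (SheafOfModules.isQuasicoherent X.ringCatSheaf).prop_of_iso S.cyclesIsoKernel.symm
      (QCoh.isQuasicoherent_kernel S.g)
  exact (SheafOfModules.isQuasicoherent X.ringCatSheaf).prop_of_iso
    ((cokernelIsCokernel S.toCycles).coconePointUniqueUpToIso S.homologyIsCokernel)
    (QCoh.isQuasicoherent_cokernel S.toCycles)

theorem isCoh_homology [IsLocallyNoetherian X] (S : ShortComplex X.Modules) [S.X₁.IsQuasicoherent]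
    [S.X₃.IsQuasicoherent] (h₂ : Coh.IsCoh S.X₂) : Coh.IsCoh S.homology := by
  haveI := h₂.1
  haveI hq : S.cycles.IsQuasicoherent :=
    (SheafOfModules.isQuasicoherent X.ringCatSheaf).prop_of_iso S.cyclesIsoKernel.symm
      (QCoh.isQuasicoherent_kernel S.g)
  have hc : Coh.IsCoh S.cycles := ⟨hq, QCoh.isFiniteType_of_mono S.iCycles h₂.2⟩
  exact QCoh.isCoh_of_iso ((cokernelIsCokernel S.toCycles).coconePointUniqueUpToIso S.homologyIsCokernel)
    ⟨QCoh.isQuasicoherent_cokernel S.toCycles, QCoh.isFiniteType_cokernel S.toCycles hc.2⟩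

variable {r₀ : ℤ} (E : CohomologicalSpectralSequence X.Modules r₀)

theorem isQuasicoherent_page (h : ∀ pq, ((E.page r₀ le_rfl).X pq).IsQuasicoherent) :
    ∀ (r : ℤ) (hr : r₀ ≤ r) (pq : ℤ × ℤ), ((E.page r hr).X pq).IsQuasicoherent := by
  intro r hr
  induction r, hr using Int.le_induction with
  | base => exact h
  | succ n hn ih =>
    intro pq
    haveI := ih
    haveI : ((E.page n hn).sc pq).X₁.IsQuasicoherent := ih _
    haveI : ((E.page n hn).sc pq).X₂.IsQuasicoherent := ih _
    haveI : ((E.page n hn).sc pq).X₃.IsQuasicoherent := ih _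
    exact (SheafOfModules.isQuasicoherent X.ringCatSheaf).prop_of_iso (E.iso n (n + 1) pq rfl hn)
      (isQuasicoherent_homology _)

theorem isCoh_page [IsLocallyNoetherian X] (h : ∀ pq, ((E.page r₀ le_rfl).X pq).IsQuasicoherent)
    (pq : ℤ × ℤ) (h2 : Coh.IsCoh ((E.page r₀ le_rfl).X pq)) :
    ∀ (r : ℤ) (hr : r₀ ≤ r), Coh.IsCoh ((E.page r hr).X pq) := by
  intro r hr
  induction r, hr using Int.le_induction with
  | base => exact h2
  | succ n hn ih =>
    haveI : ((E.page n hn).sc pq).X₁.IsQuasicoherent := isQuasicoherent_page E h _ _ _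
    haveI : ((E.page n hn).sc pq).X₃.IsQuasicoherent := isQuasicoherent_page E h _ _ _
    exact QCoh.isCoh_of_iso (E.iso n (n + 1) pq rfl hn) (isCoh_homology _ ih)

/-- A finite filtration with coherent pieces. -/
theorem isCoh_of_grPiece [IsLocallyNoetherian X] {M : X.Modules} (F : ℤ → Subobject M) (hF : Antitone F)
    (a b : ℤ) (ha : F a = ⊤) (hb : F b = ⊥) (h : ∀ p, Coh.IsCoh (SpSeq.grPiece F hF p))
    (h0 : Coh.IsCoh (SpSeq.grPiece F hF a)) : Coh.IsCoh M := by
  have hbot : ∀ p, b ≤ p → Coh.IsCoh (F p : X.Modules) := by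
    intro p hp
    have e : F p = ⊥ := le_antisymm ((hF hp).trans hb.le) bot_le
    have hz : IsZero (F p : X.Modules) := by
      rw [e]
      exact (isZero_zero _).of_iso Subobject.botCoeIsoZero
    exact QCoh.isCoh_of_iso (h0.1 |> fun _ => (isZero_cokernel_of_epi (𝟙 (SpSeq.grPiece F hF a))).iso hz)
      ⟨by haveI := h0.1; exact QCoh.isQuasicoherent_cokernel _,
        by haveI := h0.1; exact QCoh.isFiniteType_cokernel _ h0.2⟩
  have all : ∀ p, Coh.IsCoh (F p : X.Modules) := by
    intro p
    rcases le_total b p with hp | hp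
    · exact hbot p hp
    · induction p, hp using Int.le_induction_down with
      | base => exact hbot b le_rfl
      | pred m hm ih =>
        let i := (F m).ofLE (F (m - 1)) (hF (by omega))
        have hS : (ShortComplex.mk i (cokernel.π i) (cokernel.condition i)).ShortExact :=
          { exact := ShortComplex.exact_of_g_is_cokernel _ (cokernelIsCokernel i) }
        refine OX.isCoh_extension hS ih ?_
        have h' := h (m - 1)
        simp only [SpSeq.grPiece, SpSeq.subquot] at h'
        have key : ∀ (q : ℤ) (hq : q = m) (hle : F q ≤ F (m - 1)), Coh.IsCoh (cokernel ((F q).ofLE (F (m - 1)) hle)) →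
            Coh.IsCoh (cokernel i) := by
          rintro _ rfl _ hh
          exact hh
        exact key _ (by omega) _ h'
  haveI : IsIso (F a).arrow := (Subobject.isIso_arrow_iff_eq_top _).2 ha
  exact QCoh.isCoh_of_iso (asIso (F a).arrow) (all a)

/-- The abutment is coherent. -/
theorem isCoh_abutment [IsLocallyNoetherian X] {H : ℤ → X.Modules} (a : SpSeq.Abutment E H) (n : ℤ)
    (hfin : a.IsFinite n) (h : ∀ pq, ((E.page r₀ le_rfl).X pq).IsQuasicoherent)
    (hc : ∀ p q, p + q = n → Coh.IsCoh ((E.page r₀ le_rfl).X (p, q))) : Coh.IsCoh (H n) := by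
  obtain ⟨⟨lo, hlo⟩, hi, hhi⟩ := hfin
  have hgr : ∀ p, Coh.IsCoh (SpSeq.grPiece (a.fil n) (a.anti n) p) := by
    intro p
    have h1 := QCoh.isCoh_of_iso (a.β (p, n - p))
      (isCoh_page E h (p, n - p) (hc p (n - p) (by omega)) _ _)
    have e : ∀ m : ℤ, m = n → Coh.IsCoh (SpSeq.grPiece (a.fil m) (a.anti m) p) →
        Coh.IsCoh (SpSeq.grPiece (a.fil n) (a.anti n) p) := by
      rintro _ rfl hh
      exact hh
    exact e _ (by change p + (n - p) = n; omega) h1
  exact isCoh_of_grPiece (a.fil n) (a.anti n) lo hi hlo hhi hgr (hgr lo)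

end GrothLib.CohSS9
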